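import Cfsg.Agent.Lib.SporOutHe.Sift

/-!
Centralisers in a permutation group given by a table, computed from the images of a base.
-/

set_option autoImplicit false

namespace Cfsg.Agent.Lib.AutCert

open Cfsg.Agent.Lib.Coset
open Cfsg.Agent.Lib.SporOutHe (Level Valid sift sift_spec total Inside entry_spec)

/-- The data certifying the automorphisms of a group given by a table. -/
structure Cert where
  /-- The levels along the orbit of `x`. -/
  levX : List Level
  /-- The levels along the orbit of `y`. -/
  levY : List Level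
  /-- The word of `x`. -/
  xWord : List ℕ
  /-- The word of the element normalising `⟨x⟩`. -/
  hWord : List ℕ
  /-- The word of the third generator. -/
  sWord : List ℕ
  /-- The powers of `x`. -/
  xPow : List (List ℕ)
  /-- The powers of `y`. -/
  yPow : List (List ℕ)
  /-- The exponents of the base points for `x`. -/
  ksX : List ℕ
  /-- The exponents of the base points for `y`. -/
  ksY : List ℕ
  /-- The first base point for `x`. -/
  xb : ℕ
  /-- The first base point for `y`. -/
  yb : ℕ
  /-- The generators as words in the three elements. -/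
  genWords : List (List ℕ)
  /-- The images of the generators under the outer automorphism. -/
  tauWords : List (List ℕ)
  /-- Relations of the three elements. -/
  killers : List (ℕ × List ℕ)
  /-- The order of `x`. -/
  p : ℕ
  /-- `h` raises `x` to this power. -/
  e : ℕ
  /-- The outer automorphism raises `x` to this power. -/
  f : ℕ
  /-- Solves `c + e = e * c` modulo `p`. -/
  c : ℕ
  /-- `y` is this power of `h`. -/
  k : ℕ

/-- A group with a faithful permutation representation given by a table. -/
structure Model (G : Type) [Group G] where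
  /-- The table. -/
  tab : Tab
  /-- The columns are involutions. -/
  good : tab.Good
  /-- The generators. -/
  φ : ℕ → G
  /-- The representation. -/
  act : G →* Equiv.Perm (Fin tab.size)
  act_φ : ∀ g < tab.gens, act (φ g) = tab.perm good g
  inj : Function.Injective act
  gen : Subgroup.closure (φ '' Set.Iio tab.gens) = ⊤

/-- A word in three given words. -/
def subst (X : List (List ℕ)) (w : List ℕ) : List ℕ := w.flatMap fun i => X.getD i []

/-- Two words agree on a list of points. -/
noncomputable def same (P : Tab) (bs : List ℕ) (v w : List ℕ) : Bool :=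
  bs.all fun b => Nat.beq (P.app v b) (P.app w b)

/-- The letters of some words are generators. -/
def lettersOK (P : Tab) (ws : List (List ℕ)) : Bool := ws.all fun w => w.all fun a => decide (a < P.gens)

/-- The target images when the first base point goes to `q`. -/
noncomputable def targets (P : Tab) (pows : List (List ℕ)) (es : List ℕ) (q : ℕ) : List ℕ :=
  es.map fun k => P.app (pows.getD k []) q

/-- The test on the possible images of the first base point in a range. -/
noncomputable def searchOK (P : Tab) (bs : List ℕ) (Ls : List Level) (pows : List (List ℕ)) (es : List ℕ)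
    (z z' : List ℕ) (test : List ℕ → Bool) (lo len : ℕ) : Bool :=
  (List.range len).all fun i =>
    match sift P Ls (targets P pows es (lo + i)) with
    | none => true
    | some w => !(same P bs (w ++ z) (z' ++ w)) || test w

/-- The base is made of images of the first point under the powers. -/
noncomputable def baseOK (P : Tab) (Ls : List Level) (pows : List (List ℕ)) (b0 : ℕ) (ks : List ℕ) : Bool :=
  decide (b0 < P.size) && (Ls.map (·.b) == targets P pows ks b0)

/-- The listed powers are right. -/
noncomputable def powsOK (P : Tab) (bs : List ℕ) (pows : List (List ℕ)) (es ks : List ℕ) (z : List ℕ) : Bool :=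
  lettersOK P [z] && lettersOK P pows && decide (es.length = ks.length) &&
    (List.range ks.length).all fun i =>
      same P bs (pows.getD (es.getD i 0) []) (Coset.rep (ks.getD i 0) z)

namespace Model

variable {G : Type} [Group G] (M : Model G)

/-- The element of a word. -/
noncomputable def elt (w : List ℕ) : G := ev M.φ w

theorem elt_append (v w : List ℕ) : M.elt (v ++ w) = M.elt v * M.elt w := Coset.ev_append _ _ _

theorem elt_nil : M.elt [] = 1 := rfl

theorem elt_rep (n : ℕ) (w : List ℕ) : M.elt (Coset.rep n w) = M.elt w ^ n := Coset.ev_rep _ _ _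

theorem act_elt {w : List ℕ} (hw : ∀ a ∈ w, a < M.tab.gens) :
    M.act (M.elt w) = ev (M.tab.perm M.good) w := by
  rw [elt, ev_comp, ev, ev, List.map_congr_left (f := ⇑M.act ∘ M.φ) (g := M.tab.perm M.good) fun a ha =>
    M.act_φ a (hw a ha)]

theorem app_eq {w : List ℕ} (hw : ∀ a ∈ w, a < M.tab.gens) {b : ℕ} (hb : b < M.tab.size) :
    M.tab.app w b = (M.act (M.elt w) ⟨b, hb⟩ : ℕ) := by
  rw [act_elt M hw, Tab.ev_perm_apply M.good w hw]

/-- The levels are certified and fill the group. -/
structure Filled (Ls : List Level) : Prop where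
  valid : Valid M.tab Ls []
  card : Nat.card G ≤ SporOutHe.total Ls

theorem valid_letters {P : Tab} : ∀ {Ls : List Level} {before : List ℕ}, Valid P Ls before →
    ∀ L ∈ Ls, ∀ d ∈ L.pts, ∀ w, L.tree.get d = some w → ∀ a ∈ w, a < P.gens
  | L₀ :: Ls, before, hv, L, hL, d, hd, w, hw => by
    rcases List.mem_cons.1 hL with rfl | hL
    · obtain ⟨w', e, h1, -, -⟩ := entry_spec (hv.2.1 d hd)
      exact Option.some.inj (e.symm.trans hw) ▸ h1
    · exact valid_letters hv.2.2 L hL d hd w hw

theorem valid_base_lt {P : Tab} : ∀ {Ls : List Level} {before : List ℕ}, Valid P Ls before →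
    ∀ L ∈ Ls, L.b < P.size
  | L₀ :: Ls, before, hv, L, hL => by
    rcases List.mem_cons.1 hL with rfl | hL
    · have hs := hv.1
      simp only [SporOutHe.shapeOK, Bool.and_eq_true, decide_eq_true_eq] at hs
      exact hs.1
    · exact valid_base_lt hv.2.2 L hL

variable {M} {Ls : List Level}

theorem Filled.sift_word (hF : M.Filled Ls) (g : G) (ts : List ℕ)
    (hts : List.Forall₂ (fun (L : Level) t => ∀ i : Fin M.tab.size, (i : ℕ) = L.b → (M.act g i : ℕ) = t) Ls ts) :
    ∃ w, sift M.tab Ls ts = some w ∧ (∀ a ∈ w, a < M.tab.gens) ∧ g = M.elt w := by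
  have hK : Nat.card M.act.range ≤ SporOutHe.total Ls := by
    rw [← Nat.card_congr (MonoidHom.ofInjective M.inj).toEquiv]
    exact hF.card
  have hin : Inside (hP := M.good) M.act.range Ls := fun L hL d hd w hw =>
    ⟨M.elt w, act_elt M (valid_letters hF.valid L hL d hd w hw)⟩
  obtain ⟨w, hsift, hw, hgw⟩ := sift_spec hF.valid hin hK (M.act g) ⟨g, rfl⟩ ts hts
  exact ⟨w, hsift, hw, M.inj (hgw.trans (act_elt M hw).symm)⟩

theorem Filled.eq_of_base (hF : M.Filled Ls) {g g' : G}
    (h : ∀ i : Fin M.tab.size, (i : ℕ) ∈ Ls.map (·.b) → M.act g i = M.act g' i) : g = g' := by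
  let ts : List ℕ := Ls.map fun L => if hb : L.b < M.tab.size then (M.act g ⟨L.b, hb⟩ : ℕ) else 0
  have hts : ∀ a : G, (∀ i : Fin M.tab.size, (i : ℕ) ∈ Ls.map (·.b) → M.act a i = M.act g i) →
      List.Forall₂ (fun (L : Level) t => ∀ i : Fin M.tab.size, (i : ℕ) = L.b → (M.act a i : ℕ) = t) Ls ts := by
    intro a ha
    rw [List.forall₂_map_right_iff, List.forall₂_same]
    intro L hL i hi
    have hb : L.b < M.tab.size := hi ▸ i.2
    rw [dif_pos hb, show i = ⟨L.b, hb⟩ from Fin.ext hi,
      ha _ (List.mem_map.2 ⟨L, hL, rfl⟩)]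
  obtain ⟨w, hw, -, e⟩ := hF.sift_word g ts (hts g fun _ _ => rfl)
  obtain ⟨w', hw', -, e'⟩ := hF.sift_word g' ts (hts g' fun i hi => (h i hi).symm)
  rw [e, e', Option.some.inj (hw.symm.trans hw')]

theorem Filled.same_spec (hF : M.Filled Ls) {v w : List ℕ} (hv : ∀ a ∈ v, a < M.tab.gens)
    (hw : ∀ a ∈ w, a < M.tab.gens) (h : same M.tab (Ls.map (·.b)) v w = true) : M.elt v = M.elt w := by
  simp only [same, List.all_eq_true, Nat.beq_eq] at h
  refine hF.eq_of_base fun i hi => Fin.ext ?_
  rw [← app_eq M hv i.2, ← app_eq M hw i.2]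
  exact h i hi

theorem same_of_eq {bs : List ℕ} (hbs : ∀ b ∈ bs, b < M.tab.size) {v w : List ℕ}
    (hv : ∀ a ∈ v, a < M.tab.gens) (hw : ∀ a ∈ w, a < M.tab.gens) (h : M.elt v = M.elt w) :
    same M.tab bs v w = true := by
  simp only [same, List.all_eq_true, Nat.beq_eq]
  intro b hb
  rw [app_eq M hv (hbs b hb), app_eq M hw (hbs b hb), h]

theorem Filled.bases_lt (hF : M.Filled Ls) : ∀ b ∈ Ls.map (·.b), b < M.tab.size := by
  intro b hb
  obtain ⟨L, hL, rfl⟩ := List.mem_map.1 hb
  exact valid_base_lt hF.valid L hL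

theorem letters_getD {P : Tab} {ws : List (List ℕ)} (h : lettersOK P ws = true) (i : ℕ) :
    ∀ a ∈ ws.getD i [], a < P.gens := by
  intro a ha
  simp only [lettersOK, List.all_eq_true, decide_eq_true_eq] at h
  rcases Nat.lt_or_ge i ws.length with hlt | hge
  · rw [List.getD_eq_getElem _ _ hlt] at ha
    exact h _ (List.getElem_mem _) a ha
  · rw [List.getD_eq_default _ _ hge] at ha
    simp at ha

theorem rep_lt {P : Tab} {z : List ℕ} (hz : ∀ a ∈ z, a < P.gens) : ∀ i, ∀ a ∈ Coset.rep i z, a < P.gens
  | 0 => by simp [Coset.rep]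
  | i + 1 => fun a ha => by
    rw [Coset.rep, List.mem_append] at ha
    exact ha.elim (rep_lt hz i a) (hz a)

theorem subst_lt {P : Tab} {X : List (List ℕ)} (h : lettersOK P X = true) (w : List ℕ) :
    ∀ a ∈ subst X w, a < P.gens := fun a ha => by
  obtain ⟨i, -, hi⟩ := List.mem_flatMap.1 ha
  exact letters_getD h i a hi

theorem elt_subst (X : List (List ℕ)) (w : List ℕ) :
    M.elt (subst X w) = ev (fun i => M.elt (X.getD i [])) w := by
  induction w with
  | nil => rfl
  | cons i w ih =>
    rw [Coset.ev_cons, ← ih, ← elt_append]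
    rfl

theorem pows_spec (hF : M.Filled Ls) {pows : List (List ℕ)} {es ks z : List ℕ}
    (h : powsOK M.tab (Ls.map (·.b)) pows es ks z = true) :
    (∀ a ∈ z, a < M.tab.gens) ∧ es.length = ks.length ∧ lettersOK M.tab pows = true ∧
      ∀ i < ks.length, M.elt (pows.getD (es.getD i 0) []) = M.elt z ^ ks.getD i 0 := by
  simp only [powsOK, Bool.and_eq_true, decide_eq_true_eq] at h
  obtain ⟨⟨⟨hz, hp⟩, hlen⟩, he⟩ := h
  simp only [lettersOK, List.all_cons, List.all_nil, Bool.and_true, List.all_eq_true, decide_eq_true_eq] at hz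
  refine ⟨hz, hlen, hp, fun i hi => ?_⟩
  rw [hF.same_spec (letters_getD hp _) (rep_lt hz _) (List.all_eq_true.1 he i (List.mem_range.2 hi)),
    elt_rep]

theorem find {Ls₀ : List Level} (hF₀ : M.Filled Ls₀) (hF : M.Filled Ls) {pows pows' : List (List ℕ)}
    {es es' ks : List ℕ} {b0 : ℕ} {z z' : List ℕ} (hb : baseOK M.tab Ls pows b0 es = true)
    (hp : powsOK M.tab (Ls₀.map (·.b)) pows es ks z = true)
    (hp' : powsOK M.tab (Ls₀.map (·.b)) pows' es' ks z' = true)
    {test : List ℕ → Bool} {parts : List (ℕ × ℕ)}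
    (hs : ∀ q ∈ parts, searchOK M.tab (Ls₀.map (·.b)) Ls pows' es' z z' test q.1 q.2 = true)
    (hc : ∀ k < M.tab.size, ∃ q ∈ parts, q.1 ≤ k ∧ k < q.1 + q.2)
    {g : G} (hg : g * M.elt z = M.elt z' * g) :
    ∃ w, (∀ a ∈ w, a < M.tab.gens) ∧ g = M.elt w ∧ test w = true := by
  simp only [baseOK, Bool.and_eq_true, decide_eq_true_eq, beq_iff_eq] at hb
  obtain ⟨hb0, hbs⟩ := hb
  obtain ⟨hz, hle, hpl, hpe⟩ := pows_spec hF₀ hp
  obtain ⟨hz', hle', hpl', hpe'⟩ := pows_spec hF₀ hp'
  set x0 : Fin M.tab.size := ⟨b0, hb0⟩ with hx0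
  set q : ℕ := (M.act g x0 : ℕ) with hq
  have hlenL : Ls.length = ks.length := by
    have := congrArg List.length hbs
    simpa [targets, hle] using this
  have htg : List.Forall₂ (fun (L : Level) t => ∀ i : Fin M.tab.size, (i : ℕ) = L.b → (M.act g i : ℕ) = t) Ls
      (targets M.tab pows' es' q) := by
    rw [List.forall₂_iff_get]
    refine ⟨by simp [targets, hlenL, hle'], fun i h1 h2 x hx => ?_⟩
    have hi : i < ks.length := hlenL ▸ h1
    have hbi : Ls[i].b = M.tab.app (pows.getD (es.getD i 0) []) b0 := by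
      have := congrArg (fun l => l[i]?) hbs
      simp only [targets, List.getElem?_map, List.getElem?_eq_getElem h1,
        List.getElem?_eq_getElem (hle.symm ▸ hi), Option.map_some, Option.some.injEq] at this
      rw [this, ← List.getD_eq_getElem es 0 (hle.symm ▸ hi)]
    have hxe : x = M.act (M.elt z ^ ks.getD i 0) x0 := Fin.ext (by
      rw [← hpe i hi, ← app_eq M (letters_getD hpl _) hb0, ← hbi]
      simpa using hx)
    have hcomm : g * M.elt z ^ ks.getD i 0 = M.elt z' ^ ks.getD i 0 * g := by
      have hc : SemiconjBy g (M.elt z) (M.elt z') := hg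
      exact hc.pow_right _
    simp only [targets, List.get_eq_getElem, List.getElem_map]
    rw [hxe, ← Equiv.Perm.mul_apply, ← map_mul, hcomm, map_mul, Equiv.Perm.mul_apply, ← hpe' i hi,
      ← app_eq M (letters_getD hpl' _) (M.act g x0).2, ← List.getD_eq_getElem _ 0 (hle'.symm ▸ hi)]
  obtain ⟨w, hsift, hw, hge⟩ := hF.sift_word g _ htg
  refine ⟨w, hw, hge, ?_⟩
  obtain ⟨r, hr, h1, h2⟩ := hc q (M.act g x0).2
  have hh := hs r hr
  simp only [searchOK, List.all_eq_true, List.mem_range] at hh
  have h3 := hh (q - r.1) (by omega)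
  rw [show r.1 + (q - r.1) = q by omega, hsift] at h3
  simp only [Bool.or_eq_true, Bool.not_eq_true'] at h3
  refine h3.resolve_left fun hf => ?_
  rw [Bool.eq_false_iff] at hf
  refine hf (same_of_eq hF₀.bases_lt (List.forall_mem_append.2 ⟨hw, hz⟩)
    (List.forall_mem_append.2 ⟨hz', hw⟩) ?_)
  rw [elt_append, elt_append, ← hge]
  exact hg

end Model

end Cfsg.Agent.Lib.AutCert
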