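import Cfsg.Agent.Lib.AutCert.Engine
import Cfsg.Agent.Lib.SchurMult.MathieuCommon
import Cfsg.Prelude.Def_KGroupFacts

/-!
The outer automorphism group has order two: the criterion for a certified group.
-/

set_option autoImplicit false

namespace Cfsg.Agent.Lib.AutCert

open Cfsg Cfsg.Agent.Lib.Coset
open Cfsg.Agent.Lib.SporOutHe (Level)

namespace Cert

/-- The exponents after raising to the power `f`. -/
def esT (C : Cert) : List ℕ := C.ksX.map fun k => C.f * k % C.p

/-- The word of `y`. -/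
def yWord (C : Cert) : List ℕ := Coset.rep C.k C.hWord

/-- The base used to compare words. -/
def bases (C : Cert) : List ℕ := C.levX.map (·.b)

/-- The test for a power of `x`. -/
noncomputable def goodX (C : Cert) (P : Tab) (w : List ℕ) : Bool :=
  (List.range C.p).any fun i => same P C.bases w (C.xPow.getD i [])

/-- The test against the relations of the third generator. -/
noncomputable def goodY (C : Cert) (P : Tab) (w : List ℕ) : Bool :=
  same P C.bases w C.sWord ||
    C.killers.any fun r => !same P C.bases (Coset.rep r.1 (subst [C.xWord, C.hWord, w] r.2)) []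

/-- The letters of the certificate are generators. -/
def wordsOK (C : Cert) (P : Tab) : Bool :=
  lettersOK P [C.xWord] && lettersOK P [C.hWord] && lettersOK P [C.sWord] && lettersOK P C.tauWords

/-- The equations of the three elements. -/
noncomputable def eqsOK (C : Cert) (P : Tab) : Bool :=
  same P C.bases (C.hWord ++ C.xWord) (Coset.rep C.e C.xWord ++ C.hWord) &&
    same P C.bases (Coset.rep C.p C.xWord) [] && !same P C.bases C.xWord [] &&
    same P C.bases (C.yWord ++ C.sWord) (C.sWord ++ C.yWord) &&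
    (C.killers.all fun r =>
      same P C.bases (Coset.rep r.1 (subst [C.xWord, C.hWord, C.sWord] r.2)) []) &&
    ((List.range P.gens).all fun k =>
      same P C.bases [k] (subst [C.xWord, C.hWord, C.sWord] (C.genWords.getD k []))) &&
    same P C.bases (subst C.tauWords C.xWord) (C.xPow.getD C.f [])

/-- The facts about residues. -/
def residuesOK (C : Cert) : Bool :=
  decide (C.f < C.p) && !decide (C.f % C.p = 0) && Nat.beq ((C.c + C.e) % C.p) (C.e * C.c % C.p) &&
    (List.range C.p).all fun r => Nat.beq r 0 ||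
      (List.range C.p).any fun i => Nat.beq r (C.e ^ i % C.p) || Nat.beq r (C.f * C.e ^ i % C.p)

/-- The images of the relators under the outer automorphism are trivial. -/
noncomputable def tauOK (C : Cert) (P : Tab) (ws : List (List ℕ)) : Bool :=
  ws.all fun w => same P C.bases (subst C.tauWords w) []

end Cert

variable {G : Type} [Group G] {M : Model G} {C : Cert}

/-- All checks of a certificate. -/
structure Checks (M : Model G) (C : Cert) : Prop where
  levX : M.Filled C.levX
  levY : M.Filled C.levY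
  words : C.wordsOK M.tab = true
  eqs : C.eqsOK M.tab = true
  residues : C.residuesOK = true
  baseX : baseOK M.tab C.levX C.xPow C.xb C.ksX = true
  baseY : baseOK M.tab C.levY C.yPow C.yb C.ksY = true
  powsX : powsOK M.tab C.bases C.xPow C.ksX C.ksX C.xWord = true
  powsT : powsOK M.tab C.bases C.xPow C.esT C.ksX (C.xPow.getD C.f []) = true
  powsAll : powsOK M.tab C.bases C.xPow (List.range C.p) (List.range C.p) C.xWord = true
  powsY : powsOK M.tab C.bases C.yPow C.ksY C.ksY C.yWord = true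
  searchX : ∃ parts : List (ℕ × ℕ), (∀ k < M.tab.size, ∃ q ∈ parts, q.1 ≤ k ∧ k < q.1 + q.2) ∧
    ∀ q ∈ parts, searchOK M.tab C.bases C.levX C.xPow C.ksX C.xWord C.xWord (C.goodX M.tab) q.1 q.2 = true
  searchT : ∃ parts : List (ℕ × ℕ), (∀ k < M.tab.size, ∃ q ∈ parts, q.1 ≤ k ∧ k < q.1 + q.2) ∧
    ∀ q ∈ parts, searchOK M.tab C.bases C.levX C.xPow C.esT C.xWord (C.xPow.getD C.f []) (fun _ => false)
      q.1 q.2 = true
  searchY : ∃ parts : List (ℕ × ℕ), (∀ k < M.tab.size, ∃ q ∈ parts, q.1 ≤ k ∧ k < q.1 + q.2) ∧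
    ∀ q ∈ parts, searchOK M.tab C.bases C.levY C.yPow C.ksY C.yWord C.yWord (C.goodY M.tab) q.1 q.2 = true

namespace Checks

open Model

/-- The element of prime order. -/
local notation "X" => Model.elt M (Cert.xWord C)

/-- The element normalising it. -/
local notation "H" => Model.elt M (Cert.hWord C)

/-- The third generator. -/
local notation "S" => Model.elt M (Cert.sWord C)

theorem letters (h : Checks M C) : (∀ a ∈ C.xWord, a < M.tab.gens) ∧ (∀ a ∈ C.hWord, a < M.tab.gens) ∧
    (∀ a ∈ C.sWord, a < M.tab.gens) ∧ lettersOK M.tab C.tauWords = true := by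
  have h' := h.words
  simp only [Cert.wordsOK, lettersOK, List.all_cons, List.all_nil, Bool.and_true, Bool.and_eq_true] at h'
  simp only [List.all_eq_true, decide_eq_true_eq] at h'
  refine ⟨h'.1.1.1, h'.1.1.2, h'.1.2, ?_⟩
  simp only [lettersOK, List.all_eq_true, decide_eq_true_eq]
  exact h'.2

theorem xhs_ok (h : Checks M C) {u : List ℕ} (hu : ∀ a ∈ u, a < M.tab.gens) :
    lettersOK M.tab [C.xWord, C.hWord, u] = true := by
  obtain ⟨hx, hh, -, -⟩ := h.letters
  simp only [lettersOK, List.all_cons, List.all_nil, Bool.and_eq_true, List.all_eq_true, decide_eq_true_eq]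
  exact ⟨hx, hh, hu, trivial⟩

theorem hx_eq (h : Checks M C) : H * X = X ^ C.e * H := by
  obtain ⟨hx, hh, -, -⟩ := h.letters
  have h' := h.eqs
  simp only [Cert.eqsOK, Bool.and_eq_true] at h'
  have := h.levX.same_spec (List.forall_mem_append.2 ⟨hh, hx⟩)
    (List.forall_mem_append.2 ⟨rep_lt hx _, hh⟩) h'.1.1.1.1.1.1
  rwa [elt_append, elt_append, elt_rep] at this

theorem X_pow (h : Checks M C) : X ^ C.p = 1 ∧ X ≠ 1 := by
  obtain ⟨hx, -, -, -⟩ := h.letters
  have h' := h.eqs
  simp only [Cert.eqsOK, Bool.and_eq_true, Bool.not_eq_true'] at h'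
  refine ⟨?_, fun e => ?_⟩
  · have := h.levX.same_spec (rep_lt hx _) (w := []) (by simp) h'.1.1.1.1.1.2
    rwa [elt_rep, elt_nil] at this
  · have h2 := h'.1.1.1.1.2
    rw [Bool.eq_false_iff] at h2
    exact h2 (same_of_eq h.levX.bases_lt hx (by simp) (e.trans (elt_nil M).symm))

theorem orderOf_X [Fact C.p.Prime] (h : Checks M C) : orderOf X = C.p :=
  orderOf_eq_prime h.X_pow.1 h.X_pow.2

theorem pow_mod [Fact C.p.Prime] (h : Checks M C) (a : ℕ) : X ^ a = X ^ (a % C.p) := by
  rw [← h.orderOf_X, pow_mod_orderOf]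

theorem xPow_eq (h : Checks M C) {i : ℕ} (hi : i < C.p) : M.elt (C.xPow.getD i []) = X ^ i := by
  obtain ⟨-, -, -, h'⟩ := pows_spec h.levX h.powsAll
  have := h' i (by rw [List.length_range]; exact hi)
  simpa [List.getD_eq_getElem?_getD, List.getElem?_range, hi] using this

theorem cent_X (h : Checks M C) {g : G} (hg : g * X = X * g) : ∃ i < C.p, g = X ^ i := by
  obtain ⟨parts, hc, hs⟩ := h.searchX
  obtain ⟨w, hw, rfl, hgood⟩ := find h.levX h.levX h.baseX h.powsX h.powsX hs hc hg
  simp only [Cert.goodX, List.any_eq_true, List.mem_range] at hgood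
  obtain ⟨i, hi, hs'⟩ := hgood
  exact ⟨i, hi, (h.levX.same_spec hw (letters_getD (pows_spec h.levX h.powsX).2.2.1 i) hs').trans
    (h.xPow_eq hi)⟩

theorem f_lt (h : Checks M C) : C.f < C.p ∧ C.f % C.p ≠ 0 := by
  have h' := h.residues
  simp only [Cert.residuesOK, Bool.and_eq_true, Bool.not_eq_true', decide_eq_true_eq,
    decide_eq_false_iff_not] at h'
  exact ⟨h'.1.1.1, h'.1.1.2⟩

theorem no_outer_power (h : Checks M C) (g : G) : g * X ≠ X ^ C.f * g := fun hg => by
  rw [← h.xPow_eq h.f_lt.1] at hg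
  obtain ⟨parts, hc, hs⟩ := h.searchT
  obtain ⟨w, -, -, hgood⟩ := find h.levX h.levX h.baseX h.powsX h.powsT hs hc hg
  exact Bool.false_ne_true hgood

/-- The three words evaluated at three elements. -/
def ev3 (a b c : G) (w : List ℕ) : G := ev (fun i => [a, b, c].getD i 1) w

theorem elt_subst3 (u v w : List ℕ) (r : List ℕ) :
    M.elt (subst [u, v, w] r) = ev3 (M.elt u) (M.elt v) (M.elt w) r := by
  rw [elt_subst, ev3]
  congr 1
  funext i
  match i with
  | 0 => rfl
  | 1 => rfl
  | 2 => rfl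
  | n + 3 => rfl

theorem map_ev3 (f : G →* G) (a b c : G) (w : List ℕ) :
    f (ev3 a b c w) = ev3 (f a) (f b) (f c) w := by
  rw [ev3, ev_comp, ev3]
  congr 1
  funext i
  match i with
  | 0 => rfl
  | 1 => rfl
  | 2 => rfl
  | n + 3 => exact map_one f

theorem gen_eq (h : Checks M C) {k : ℕ} (hk : k < M.tab.gens) :
    M.φ k = ev3 X H S (C.genWords.getD k []) := by
  obtain ⟨-, -, hs, -⟩ := h.letters
  have h' := h.eqs
  simp only [Cert.eqsOK, Bool.and_eq_true] at h'
  have := h.levX.same_spec (v := [k]) (by intro a ha; rw [List.mem_singleton.1 ha]; exact hk)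
    (subst_lt (h.xhs_ok hs) _) (List.all_eq_true.1 h'.1.2 k (List.mem_range.2 hk))
  rw [elt_subst3] at this
  rw [← show M.elt [k] = M.φ k by simp [Model.elt, ev_cons, ev_nil]]
  exact this

theorem aut_eq_one (h : Checks M C) {β : MulAut G} (hx : β X = X) (hh : β H = H) (hs : β S = S) : β = 1 := by
  have htop : MonoidHom.eqLocus β.toMonoidHom (MonoidHom.id _) = ⊤ := by
    rw [eq_top_iff, ← M.gen]
    refine (Subgroup.closure_le _).2 ?_
    rintro _ ⟨k, hk, rfl⟩
    show β.toMonoidHom (M.φ k) = M.φ k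
    rw [h.gen_eq (Set.mem_Iio.1 hk), map_ev3]
    show ev3 (β X) (β H) (β S) _ = _
    rw [hx, hh, hs]
  exact MulEquiv.ext fun g => (htop ▸ Subgroup.mem_top g : g ∈ MonoidHom.eqLocus β.toMonoidHom (MonoidHom.id _))

theorem fix_both (h : Checks M C) {β : MulAut G} (hx : β X = X) (hh : β H = H) : β = 1 := by
  obtain ⟨-, hhl, hsl, -⟩ := h.letters
  have hy : M.elt C.yWord = H ^ C.k := elt_rep M _ _
  have hyl : ∀ a ∈ C.yWord, a < M.tab.gens := rep_lt hhl _
  have h' := h.eqs
  simp only [Cert.eqsOK, Bool.and_eq_true] at h'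
  have hc := h.levX.same_spec (List.forall_mem_append.2 ⟨hyl, hsl⟩) (List.forall_mem_append.2 ⟨hsl, hyl⟩)
    h'.1.1.1.2
  rw [elt_append, elt_append, hy] at hc
  have hc' : β S * M.elt C.yWord = M.elt C.yWord * β S := by
    have := congrArg β hc
    simp only [map_mul, map_pow, hh] at this
    rw [hy]
    exact this.symm
  obtain ⟨parts, hcov, hs⟩ := h.searchY
  obtain ⟨w, hw, hbw, hgood⟩ := find h.levX h.levY h.baseY h.powsY h.powsY hs hcov hc'
  simp only [Cert.goodY, Bool.or_eq_true, List.any_eq_true, Bool.not_eq_true'] at hgood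
  rcases hgood with hgood | ⟨r, hr, hne⟩
  · exact h.aut_eq_one hx hh (hbw.trans (h.levX.same_spec hw hsl hgood))
  · exfalso
    have e1 := h.levX.same_spec (rep_lt (subst_lt (h.xhs_ok hsl) r.2) r.1) (w := []) (by simp)
      (List.all_eq_true.1 h'.1.1.2 r hr)
    rw [elt_rep, elt_nil, elt_subst3] at e1
    rw [Bool.eq_false_iff] at hne
    refine hne (same_of_eq h.levX.bases_lt (rep_lt (subst_lt (h.xhs_ok hw) r.2) r.1) (by simp) ?_)
    rw [elt_rep, elt_nil, elt_subst3, ← hbw]
    have := congrArg β.toMonoidHom e1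
    rw [map_pow, map_ev3, map_one] at this
    simpa [hx, hh] using this

theorem conj_pow_X (h : Checks M C) : ∀ i : ℕ, MulAut.conj (H ^ i) X = X ^ (C.e ^ i)
  | 0 => by simp
  | i + 1 => by
    have h1 : MulAut.conj H X = X ^ C.e := by rw [MulAut.conj_apply, h.hx_eq, mul_inv_cancel_right]
    rw [pow_succ, map_mul, MulAut.mul_apply, h1, map_pow, conj_pow_X h i, ← pow_mul, ← pow_succ]

theorem fix_X [Fact C.p.Prime] (h : Checks M C) {β : MulAut G} (hx : β X = X) : β ∈ Cfsg.Inn G := by
  have hz : H⁻¹ * β H * X = X * (H⁻¹ * β H) := by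
    have e := congrArg β h.hx_eq
    rw [map_mul, map_mul, map_pow, hx] at e
    rw [mul_assoc, e, ← mul_assoc, ← mul_assoc]
    congr 1
    rw [inv_mul_eq_iff_eq_mul, ← mul_assoc, h.hx_eq, mul_inv_cancel_right]
  obtain ⟨i, -, hi⟩ := h.cent_X hz
  rw [inv_mul_eq_iff_eq_mul] at hi
  have hres := h.residues
  simp only [Cert.residuesOK, Bool.and_eq_true, Nat.beq_eq] at hres
  have e : MulAut.conj (X ^ (C.c * i)) * β = 1 := by
    refine h.fix_both ?_ ?_
    · rw [MulAut.mul_apply, hx, MulAut.conj_apply, ← pow_succ, pow_succ', mul_inv_cancel_right]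
    · have hH : ∀ a : ℕ, H * X ^ a = X ^ (C.e * a) * H := fun a => by
        have hs : SemiconjBy H X (X ^ C.e) := h.hx_eq
        rw [pow_mul]
        exact (hs.pow_right a).eq
      have hexp : X ^ (C.c * i + C.e * i) = X ^ (C.e * (C.c * i)) := by
        rw [h.pow_mod, h.pow_mod (C.e * (C.c * i)), ← add_mul, ← mul_assoc, Nat.mul_mod, hres.1.2,
          ← Nat.mul_mod]
      rw [MulAut.mul_apply, hi, MulAut.conj_apply, hH i, ← mul_assoc, ← pow_add, hexp, ← hH,
        mul_inv_cancel_right]
  rw [eq_inv_of_mul_eq_one_right e, ← map_inv]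
  exact ⟨_, rfl⟩

theorem sig_inv (h : Checks M C)
    (hr : C.tauOK M.tab ((List.range M.tab.gens).map fun k => [k, k]) = true) (k : ℕ)
    (hk : k < M.tab.gens ∨ C.tauWords.length ≤ k) :
    M.elt (C.tauWords.getD k []) * M.elt (C.tauWords.getD k []) = 1 := by
  rcases hk with hk | hk
  · have hl := h.letters.2.2.2
    have := h.levX.same_spec (subst_lt hl [k, k]) (w := []) (by simp)
      (List.all_eq_true.1 hr _ (List.mem_map.2 ⟨k, List.mem_range.2 hk, rfl⟩))
    rw [elt_subst, elt_nil, ev_cons, ev_cons, ev_nil, mul_one] at this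
    exact this
  · rw [List.getD_eq_default _ _ hk, elt_nil, one_mul]

theorem sig_rel (h : Checks M C) {ws : List (List ℕ)} (hr : C.tauOK M.tab ws = true) :
    ∀ w ∈ ws, ev (fun k => M.elt (C.tauWords.getD k [])) w = 1 := fun w hw => by
  have := h.levX.same_spec (subst_lt h.letters.2.2.2 w) (w := []) (by simp) (List.all_eq_true.1 hr w hw)
  rwa [elt_subst, elt_nil] at this

theorem out_two [Finite G] [IsSimpleGroup G] [Fact C.p.Prime] (h : Checks M C) {τ : G →* G}
    (hτ : ∀ k < M.tab.gens, τ (M.φ k) = M.elt (C.tauWords.getD k []))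
    (hfac : (Nat.card G).factorization C.p = 1) : Nat.card (Cfsg.Out G) = 2 := by
  obtain ⟨hxl, -, -, htl⟩ := h.letters
  have hτX : τ X = X ^ C.f := by
    have h' := h.eqs
    simp only [Cert.eqsOK, Bool.and_eq_true] at h'
    have := h.levX.same_spec (subst_lt htl C.xWord) (letters_getD (pows_spec h.levX h.powsX).2.2.1 C.f) h'.2
    rw [elt_subst, h.xPow_eq h.f_lt.1] at this
    rw [Model.elt, ev_comp]
    refine Eq.trans ?_ this
    exact congrArg List.prod (List.map_congr_left fun a ha => hτ a (hxl a ha))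
  have hinj : Function.Injective τ := by
    rw [← MonoidHom.ker_eq_bot_iff]
    refine (IsSimpleGroup.eq_bot_or_eq_top_of_normal τ.ker inferInstance).resolve_right fun e => ?_
    have h1 : τ X = 1 := MonoidHom.mem_ker.1 (e ▸ Subgroup.mem_top _)
    rw [hτX] at h1
    have := orderOf_dvd_of_pow_eq_one h1
    rw [h.orderOf_X] at this
    exact h.f_lt.2 (Nat.mod_eq_zero_of_dvd this)
  let tau : MulAut G := MulEquiv.ofBijective τ ⟨hinj, Finite.surjective_of_injective hinj⟩
  have tau_X : tau X = X ^ C.f := hτX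
  let q : MulAut G →* Cfsg.Out G := QuotientGroup.mk' _
  have hinn : ∀ a ∈ Cfsg.Inn G, q a = 1 := fun a ha => (QuotientGroup.eq_one_iff a).2 ha
  have hconj : ∀ g, q (MulAut.conj g) = 1 := fun g => hinn _ ⟨g, rfl⟩
  have hall : ∀ α, q α = 1 ∨ q α = q tau := by
    intro α
    have hP : Nat.card (Subgroup.zpowers X) = C.p ^ (Nat.card G).factorization C.p := by
      rw [Nat.card_zpowers, h.orderOf_X, hfac, pow_one]
    have hQ : Nat.card (Subgroup.zpowers (α X)) = C.p ^ (Nat.card G).factorization C.p := by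
      rw [← hP, Nat.card_zpowers, Nat.card_zpowers, MulEquiv.orderOf_eq]
    obtain ⟨g, hg⟩ := MulAction.exists_smul_eq G (Sylow.ofCard _ hQ) (Sylow.ofCard _ hP)
    have hmem : MulAut.conj g (α X) ∈ Subgroup.zpowers X := by
      have h1 : g * α X * g⁻¹ ∈ (g • Sylow.ofCard _ hQ : Sylow C.p G).toSubgroup := by
        rw [Sylow.coe_subgroup_smul]
        exact ⟨α X, Subgroup.mem_zpowers _, rfl⟩
      rw [hg] at h1
      exact h1
    obtain ⟨r, hr⟩ : ∃ r : ℕ, X ^ r = MulAut.conj g (α X) := (Submonoid.mem_powers_iff _ _).1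
      ((mem_powers_iff_mem_zpowers (G := G)).2 hmem)
    rw [h.pow_mod] at hr
    have hr0 : r % C.p ≠ 0 := fun e => by
      rw [e, pow_zero, eq_comm, EmbeddingLike.map_eq_one_iff, EmbeddingLike.map_eq_one_iff] at hr
      exact h.X_pow.2 hr
    have hres := h.residues
    simp only [Cert.residuesOK, Bool.and_eq_true] at hres
    have hres' := List.all_eq_true.1 hres.2 (r % C.p)
      (List.mem_range.2 (Nat.mod_lt _ (Fact.out : C.p.Prime).pos))
    simp only [Bool.or_eq_true, Nat.beq_eq, List.any_eq_true] at hres'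
    obtain ⟨i, -, hi⟩ := hres'.resolve_left hr0
    rcases hi with hi | hi
    · left
      have hfx : ((MulAut.conj (H ^ i))⁻¹ * (MulAut.conj g * α)) X = X := by
        rw [MulAut.mul_apply, MulAut.mul_apply, ← hr, hi, ← h.pow_mod, MulAut.inv_apply,
          MulEquiv.symm_apply_eq, h.conj_pow_X]
      have := hinn _ (h.fix_X hfx)
      simpa [map_mul, map_inv, hconj] using this
    · right
      have hfx : ((tau * MulAut.conj (H ^ i))⁻¹ * (MulAut.conj g * α)) X = X := by
        rw [MulAut.mul_apply, MulAut.mul_apply, ← hr, hi, ← h.pow_mod, MulAut.inv_apply,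
          MulEquiv.symm_apply_eq, MulAut.mul_apply, h.conj_pow_X, map_pow, tau_X, ← pow_mul]
      have := hinn _ (h.fix_X hfx)
      rw [map_mul, map_inv, map_mul, map_mul, hconj, hconj, mul_one, one_mul, inv_mul_eq_one] at this
      exact this.symm
  rw [Nat.card_eq_two_iff]
  refine ⟨1, q tau, fun e => ?_, Set.eq_univ_of_forall fun a => ?_⟩
  · obtain ⟨g, hg⟩ : tau ∈ Cfsg.Inn G := (QuotientGroup.eq_one_iff _).1 e.symm
    refine h.no_outer_power g ?_
    have h1 := DFunLike.congr_fun hg X
    rw [tau_X, MulAut.conj_apply, mul_inv_eq_iff_eq_mul] at h1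
    exact h1
  · obtain ⟨α, rfl⟩ := QuotientGroup.mk_surjective a
    rcases hall α with h' | h'
    · exact Or.inl h'
    · exact Or.inr h'

end Checks

end Cfsg.Agent.Lib.AutCert
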